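import Cfsg.Agent.Lib.Helper12.TCG.Fi24Sub
import Cfsg.Agent.Lib.Helper12.Ord.SubPres3
import Cfsg.Prelude.Def_Spor_Fi23

/-!
The presented Fischer group Fi24: relations among the generators, the subgroup `Hs` generated by all generators
but `k`, its central element `l`, and the homomorphism from the presented group Fi23 to the quotient of `Hs` by
the subgroup generated by `l`, given the spider relation (helper12).
-/

set_option autoImplicit false
set_option linter.unusedSimpArgs false

namespace Cfsg.Agent.Lib.Helper12.Fi24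

open Cfsg.Spor Cfsg.Agent.Lib.Helper12.TCG.Fi24Pres Cfsg.Agent.Lib.Helper12.Ord

/-- the image of a generator -/
noncomputable abbrev g (x : Fi24.Gen) : Fi24 := PresentedGroup.mk rels (FreeGroup.of x)

theorem cox_rel (x y : Fi24.Gen) : (g x * g y) ^ coxLabel Fi24.edges x y = 1 := by
  have hmem : (FreeGroup.of x * FreeGroup.of y) ^ coxLabel Fi24.edges x y ∈ rels :=
    Or.inl ⟨x, hnodes x, y, hnodes y, rfl⟩
  have := PresentedGroup.one_of_mem hmem
  rw [map_pow, map_mul] at this
  exact this

theorem g_sq (x : Fi24.Gen) : g x * g x = 1 := by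
  have h := cox_rel x x
  have hl : coxLabel Fi24.edges x x = 1 := if_pos rfl
  rw [hl, pow_one] at h
  exact h

theorem g_inv (x : Fi24.Gen) : (g x)⁻¹ = g x := inv_eq_of_mul_eq_one_left (g_sq x)

theorem g_comm (x y : Fi24.Gen) (h : coxLabel Fi24.edges x y = 2) : g x * g y = g y * g x := by
  have h1 := cox_rel x y
  rw [h, pow_two] at h1
  have h2 : g x * g y = (g x * g y)⁻¹ := eq_inv_of_mul_eq_one_left h1
  rw [h2, mul_inv_rev, g_inv, g_inv]

theorem g_braid (x y : Fi24.Gen) (h : coxLabel Fi24.edges x y = 3) : (g x * g y) ^ 3 = 1 := by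
  have h1 := cox_rel x y
  rw [h] at h1
  exact h1

/-- neighbours in the graph are conjugate -/
theorem g_conj (x y : Fi24.Gen) (h : coxLabel Fi24.edges x y = 3) :
    (g x * g y) * g x * (g x * g y)⁻¹ = g y := by
  have h1 : g x * g y * g x * g y * g x * g y = 1 := by
    have := g_braid x y h
    rw [pow_succ, pow_succ, pow_one] at this
    simpa only [mul_assoc] using this
  have h2 : g x * g y * g x * g y * g x = g y := by
    have := congrArg (· * g y) h1
    simp only [one_mul, mul_assoc, g_sq, mul_one] at this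
    simpa only [mul_assoc] using this
  rw [mul_inv_rev, g_inv, g_inv]
  simpa only [mul_assoc] using h2

/-- a property that spreads along the edges of the graph holds for all generators -/
theorem all_of_edges (P : Fi24.Gen → Prop) (h0 : P .l)
    (hstep : ∀ x y, coxLabel Fi24.edges x y = 3 → P x → P y) : ∀ y, P y := by
  have hk : P .k := hstep .l .k (by decide) h0
  have ha : P .a := hstep .k .a (by decide) hk
  have hb : P .b := hstep .a .b (by decide) ha
  have hc : P .c := hstep .b .c (by decide) hb
  have hd : P .d := hstep .c .d (by decide) hc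
  have he : P .e := hstep .d .e (by decide) hd
  have hf : P .f := hstep .e .f (by decide) he
  have hg : P .g := hstep .f .g (by decide) hf
  have hj : P .j := hstep .g .j (by decide) hg
  have hh : P .h := hstep .d .h (by decide) hd
  have hi : P .i := hstep .h .i (by decide) hh
  intro y
  cases y <;> assumption

/-- the conjugates of `l` generate the group -/
theorem normalClosure_l : Subgroup.normalClosure {g .l} = (⊤ : Subgroup Fi24) := by
  have hall : ∀ y : Fi24.Gen, g y ∈ Subgroup.normalClosure {g .l} := by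
    apply all_of_edges
    · exact Subgroup.subset_normalClosure rfl
    · intro x y hxy hx
      rw [← g_conj x y hxy]
      exact Subgroup.normalClosure_normal.conj_mem _ hx _
  rw [eq_top_iff, ← PresentedGroup.closure_range_of rels, Subgroup.closure_le]
  rintro _ ⟨y, rfl⟩
  exact hall y

/-- the generators of `Hs` -/
def SH : Set Fi24.Gen := {.a, .b, .c, .d, .e, .f, .g, .h, .i, .j, .l}

theorem Hs_eq : Hs = Subgroup.closure (g '' SH) := by
  unfold Hs
  rw [MonoidHom.map_closure]
  congr 1
  ext γ
  simp only [Set.mem_image, SH, Set.mem_insert_iff, Set.mem_singleton_iff]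
  constructor
  · rintro ⟨x, hx, rfl⟩
    rcases hx with rfl | rfl | rfl | rfl | rfl | rfl | rfl | rfl | rfl | rfl | rfl
    · exact ⟨.a, by simp, rfl⟩
    · exact ⟨.b, by simp, rfl⟩
    · exact ⟨.c, by simp, rfl⟩
    · exact ⟨.d, by simp, rfl⟩
    · exact ⟨.e, by simp, rfl⟩
    · exact ⟨.f, by simp, rfl⟩
    · exact ⟨.g, by simp, rfl⟩
    · exact ⟨.h, by simp, rfl⟩
    · exact ⟨.i, by simp, rfl⟩
    · exact ⟨.j, by simp, rfl⟩
    · exact ⟨.l, by simp, rfl⟩
  · rintro ⟨x, hx, rfl⟩
    refine ⟨FreeGroup.of x, ?_, rfl⟩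
    rcases hx with rfl | rfl | rfl | rfl | rfl | rfl | rfl | rfl | rfl | rfl | rfl <;> simp [Fi24.a, Fi24.b,
      Fi24.c, Fi24.d, Fi24.e, Fi24.f, Fi24.g, Fi24.h, Fi24.i, Fi24.j, Fi24.l]

theorem g_mem_Hs (x : Fi24.Gen) (hx : x ∈ SH) : g x ∈ Hs := by
  rw [Hs_eq]
  exact Subgroup.subset_closure ⟨x, hx, rfl⟩

/-- `l` commutes with the generators of `Hs` -/
theorem l_comm_gen (x : Fi24.Gen) (hx : x ∈ SH) : g x * g .l = g .l * g x := by
  simp only [SH, Set.mem_insert_iff, Set.mem_singleton_iff] at hx
  rcases hx with rfl | rfl | rfl | rfl | rfl | rfl | rfl | rfl | rfl | rfl | rfl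
  · exact g_comm _ _ (by decide)
  · exact g_comm _ _ (by decide)
  · exact g_comm _ _ (by decide)
  · exact g_comm _ _ (by decide)
  · exact g_comm _ _ (by decide)
  · exact g_comm _ _ (by decide)
  · exact g_comm _ _ (by decide)
  · exact g_comm _ _ (by decide)
  · exact g_comm _ _ (by decide)
  · exact g_comm _ _ (by decide)
  · rfl

/-- `l` is central in `Hs` -/
theorem l_central : ∀ h ∈ Hs, h * g .l = g .l * h := by
  intro h hh
  rw [Hs_eq] at hh
  refine Subgroup.closure_induction (p := fun h _ => h * g .l = g .l * h) ?_ ?_ ?_ ?_ hh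
  · rintro _ ⟨x, hx, rfl⟩
    exact l_comm_gen x hx
  · rw [one_mul, mul_one]
  · intro x y _ _ hx hy
    rw [mul_assoc, hy, ← mul_assoc, hx, mul_assoc]
  · intro x _ hx
    have := congrArg (fun z => x⁻¹ * z * x⁻¹) hx
    simp only [mul_assoc, mul_inv_cancel, mul_one, inv_mul_cancel_left] at this
    exact this.symm

end Cfsg.Agent.Lib.Helper12.Fi24
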