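import Cfsg.Agent.Lib.Helper12.Fi24.Simple
import Cfsg.Agent.Lib.Helper12.Ord.Fi24Spider
import Cfsg.Agent.Lib.Helper12.TCG.Fi24x306936.Rho
import Cfsg.Agent.Lib.Helper12.Ord.Rank3

/-!
The commutator subgroup of the presented Fischer group Fi24 is simple of the order of Fi24' (helper12).
-/

set_option autoImplicit false
set_option maxRecDepth 100000

namespace Cfsg.Agent.Lib.Helper12.Fi24

open Cfsg.Spor Cfsg.Agent.Lib.Helper12.TC Cfsg.Agent.Lib.Helper12.TCG Cfsg.Agent.Lib.Helper12.TCG.Fi24Pres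
  Cfsg.Agent.Lib.Helper12.TCG.Fi24x306936 Cfsg.Agent.Lib.Helper12.Ord

theorem isCoatom_Hs : IsCoatom Hs := by
  obtain ⟨Φ, hΦ⟩ := rho_equiv
  have horb1 := Fn.orbit_image Hs v rho rho_gen hH Φ hN0 hΦ hsub (lo := 1) (hi := 275265)
    (by decide) (by decide) horbi1 horbc1
  have horb2 := Fn.orbit_image Hs v rho rho_gen hH Φ hN0 hΦ hsub (lo := 275265) (hi := 306936)
    (by decide) (by decide) horbi2 horbc2
  refine isCoatom_of_rank3 Hs Φ 275265 (by decide) (by decide) ?_ horb1 horb2 (by decide) (by decide)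
  rw [hΦ, map_one]
  rfl

/-- normal subgroups contained in `Hs` act trivially -/
theorem rho_core : ∀ K : Subgroup Fi24, K.Normal → K ≤ Hs → ∀ n ∈ K, rho n = 1 := by
  intro K hK hle n hn
  obtain ⟨Φ, hΦ⟩ := rho_equiv
  ext i
  obtain ⟨q, rfl⟩ := Φ.surjective i
  induction q using QuotientGroup.induction_on with
  | H γ =>
    have h1 : ((n * γ : Fi24) : Fi24 ⧸ Hs) = (γ : Fi24 ⧸ Hs) := by
      rw [QuotientGroup.eq]
      have : (n * γ)⁻¹ * γ = γ⁻¹ * n⁻¹ * γ⁻¹⁻¹ := by group
      rw [this]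
      exact hle (hK.conj_mem _ (K.inv_mem hn) _)
    have h2 := congrArg Φ h1
    rw [hΦ, hΦ, map_mul, Equiv.Perm.mul_apply] at h2
    rw [hΦ, h2]
    rfl

theorem hTa : TT 2 1 = 2 := by decide +kernel

theorem hTl : TT 0 1 = 3 := by decide +kernel

theorem rho_a_val : ((rho (g .a) ⟨1, by decide⟩ : Fin cN) : ℕ) = 2 := by
  have h := rho_gen 2 (by decide) ⟨1, by decide⟩
  rw [show v 2 = g .a from rfl] at h
  rw [h]
  exact hTa

theorem rho_l_val : ((rho (g .l) ⟨1, by decide⟩ : Fin cN) : ℕ) = 3 := by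
  have h := rho_gen 0 (by decide) ⟨1, by decide⟩
  rw [show v 0 = g .l from rfl] at h
  rw [h]
  exact hTl

theorem rho_a_ne : rho (g .a) ≠ 1 := by
  intro h
  have h1 := rho_a_val
  rw [h] at h1
  exact absurd h1 (by decide)

theorem rho_l_ne : rho (g .l) ≠ 1 := by
  intro h
  have h1 := rho_l_val
  rw [h] at h1
  exact absurd h1 (by decide)

theorem rho_a_ne_l : rho (g .a) ≠ rho (g .l) := by
  intro h
  have h1 := rho_a_val
  rw [h, rho_l_val] at h1
  exact absurd h1 (by decide)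

theorem spider' : (g .d * g .c * g .b * g .d * g .e * g .f * g .d * g .h * g .i) ^ 10 = 1 := by
  have h := Fi24Spider.spider
  simpa only [map_pow, map_mul] using h

/-- the commutator subgroup of the presented group Fi24 is simple of the order of Fi24' -/
theorem main : Cfsg.IsFi24' Cfsg.Spor.Fi24' :=
  isFi24' rho rho_core rho_a_ne rho_l_ne rho_a_ne_l spider' rho_index isCoatom_Hs

end Cfsg.Agent.Lib.Helper12.Fi24
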