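import Cfsg.Agent.Lib.Helper12.Fi24.Basic
import Cfsg.Agent.Lib.Helper12.Ord.Fi23Simple

/-!
The presented Fischer group Fi24: given the spider relation, the quotient of the subgroup `Hs` (generated by all
generators but `k`) by the central subgroup generated by `l` is an image of the presented group Fi23, hence simple
and of the order of Fi23; so `Hs` has twice the order of Fi23 (helper12).
-/

set_option autoImplicit false
set_option linter.unusedSimpArgs false

namespace Cfsg.Agent.Lib.Helper12.Fi24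

open Cfsg.Spor Cfsg.Agent.Lib.Helper12.TCG.Fi24Pres Cfsg.Agent.Lib.Helper12.Ord

/-- the generators of Fi23 as generators of Fi24 -/
def ι23 : Fi23.Gen → Fi24.Gen
  | .a => .a
  | .b => .b
  | .c => .c
  | .d => .d
  | .e => .e
  | .f => .f
  | .g => .g
  | .j => .j
  | .h => .h
  | .i => .i

theorem ι23_mem (x : Fi23.Gen) : ι23 x ∈ SH := by
  cases x <;> simp [ι23, SH]

theorem lab23 : ∀ x y : Fi23.Gen, coxLabel Fi24.edges (ι23 x) (ι23 y) = coxLabel Fi23.edges x y := by
  intro x y
  cases x <;> cases y <;> decide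

/-- words in the generators of Fi23 as elements of Fi24 -/
noncomputable def θ0 : FreeGroup Fi23.Gen →* Fi24 := (PresentedGroup.mk rels).comp (FreeGroup.map ι23)

theorem θ0_of (x : Fi23.Gen) : θ0 (FreeGroup.of x) = g (ι23 x) := by
  simp [θ0]

theorem θ0_mem (w : FreeGroup Fi23.Gen) : θ0 w ∈ Hs := by
  refine FreeGroup.induction_on w ?_ ?_ ?_ ?_
  · rw [map_one]; exact Hs.one_mem
  · intro x
    rw [θ0_of]; exact g_mem_Hs _ (ι23_mem x)
  · intro x ih
    rw [map_inv]; exact Hs.inv_mem ih
  · intro x y hx hy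
    rw [map_mul]; exact Hs.mul_mem hx hy

/-- words in the generators of Fi23 as elements of `Hs` -/
noncomputable def θ : FreeGroup Fi23.Gen →* Hs := θ0.codRestrict Hs θ0_mem

theorem θ_coe (w : FreeGroup Fi23.Gen) : (θ w : Fi24) = θ0 w := rfl

/-- `l` as an element of `Hs` -/
noncomputable def lH : Hs := ⟨g .l, g_mem_Hs _ (by simp [SH])⟩

/-- the subgroup generated by `l` -/
noncomputable def L : Subgroup Hs := Subgroup.zpowers lH

theorem lH_central (h : Hs) : h * lH = lH * h := Subtype.ext (l_central h.1 h.2)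

instance L_normal : L.Normal := by
  refine ⟨fun x hx y => ?_⟩
  obtain ⟨k, rfl⟩ := Subgroup.mem_zpowers_iff.mp hx
  have hc : Commute y lH := lH_central y
  have := (hc.zpow_right k).eq
  rw [this, mul_inv_cancel_right]
  exact Subgroup.zpow_mem_zpowers _ _

theorem lH_sq : lH * lH = 1 := Subtype.ext (g_sq .l)

/-- the elements of `L` -/
theorem mem_L (x : Hs) (hx : x ∈ L) : x = 1 ∨ x = lH := by
  obtain ⟨k, rfl⟩ := Subgroup.mem_zpowers_iff.mp hx
  have h2 : lH ^ (2 : ℤ) = 1 := by
    rw [zpow_two]; exact lH_sq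
  rcases Int.emod_two_eq_zero_or_one k with h | h
  · left
    have : k = 2 * (k / 2) := by omega
    rw [this, zpow_mul, h2, one_zpow]
  · right
    have : k = 2 * (k / 2) + 1 := by omega
    rw [this, zpow_add, zpow_mul, h2, one_zpow, one_mul, zpow_one]

/-- the relation of the presentation: `l` is the ninth power of `a b c d e f h` -/
theorem l_eq : g .l = (g .a * g .b * g .c * g .d * g .e * g .f * g .h) ^ 9 := by
  have hmem : Fi24.l * (((Fi24.a * Fi24.b * Fi24.c * Fi24.d * Fi24.e * Fi24.f * Fi24.h) ^ 9)⁻¹) ∈ rels :=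
    Or.inr List.mem_cons_self
  have := PresentedGroup.one_of_mem hmem
  rw [map_mul, map_inv, mul_inv_eq_one] at this
  rw [map_pow] at this
  simpa only [map_mul] using this

section

variable (spider : (g .d * g .c * g .b * g .d * g .e * g .f * g .d * g .h * g .i) ^ 10 = 1)

include spider in
/-- the homomorphism from the presented group Fi23 -/
theorem exists_hom : ∃ φ : Fi23 →* Hs ⧸ L, ∀ w : FreeGroup Fi23.Gen,
    φ (PresentedGroup.mk (coxRelators Fi23.edges ∪ {r | r ∈ Fi23.extra}) w) =
      (QuotientGroup.mk (θ w) : Hs ⧸ L) := by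
  refine pres_hom_of_free Fi23.edges Fi23.extra ((QuotientGroup.mk' L).comp θ) ?_ ?_
  · intro x _ y _
    rw [MonoidHom.comp_apply]
    have h1 : θ ((FreeGroup.of x * FreeGroup.of y) ^ coxLabel Fi23.edges x y) = 1 := by
      apply Subtype.ext
      rw [θ_coe, map_pow, map_mul, θ0_of, θ0_of, ← lab23]
      exact cox_rel _ _
    rw [h1, map_one]
  · intro r hr
    rw [MonoidHom.comp_apply]
    have hr' : r = (Fi23.d * Fi23.c * Fi23.b * Fi23.d * Fi23.e * Fi23.f * Fi23.d * Fi23.h * Fi23.i) ^ 10 ∨
        r = (Fi23.a * Fi23.b * Fi23.c * Fi23.d * Fi23.e * Fi23.f * Fi23.h) ^ 9 := by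
      simpa only [Fi23.extra, List.mem_cons, List.not_mem_nil, or_false] using hr
    rcases hr' with rfl | rfl
    · have h1 : θ ((Fi23.d * Fi23.c * Fi23.b * Fi23.d * Fi23.e * Fi23.f * Fi23.d * Fi23.h * Fi23.i) ^ 10)
          = 1 := by
        apply Subtype.ext
        rw [θ_coe]
        simp only [map_pow, map_mul, θ0_of, ι23]
        exact spider
      rw [h1, map_one]
    · have h1 : θ ((Fi23.a * Fi23.b * Fi23.c * Fi23.d * Fi23.e * Fi23.f * Fi23.h) ^ 9) = lH := by
        apply Subtype.ext
        rw [θ_coe]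
        simp only [map_pow, map_mul, θ0_of, ι23]
        exact l_eq.symm
      rw [h1]
      exact (QuotientGroup.eq_one_iff _).mpr (Subgroup.mem_zpowers lH)

/-- the subgroup `Hs` is generated by its generators, as a group -/
theorem closure_gens_Hs : Subgroup.closure {x : Hs | ∃ y ∈ SH, (x : Fi24) = g y} = ⊤ := by
  have h := Subgroup.closure_closure_coe_preimage (k := g '' SH)
  rw [eq_top_iff]
  intro x _
  have hx : (x : Fi24) ∈ Subgroup.closure (g '' SH) := by
    rw [← Hs_eq]; exact x.2
  have h2 : (⟨x, hx⟩ : Subgroup.closure (g '' SH)) ∈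
      Subgroup.closure (((↑) : Subgroup.closure (g '' SH) → Fi24) ⁻¹' (g '' SH)) := by
    rw [h]; trivial
  -- transport along the inclusion of `closure (g '' SH)` into `Hs`
  have hle : Subgroup.closure (g '' SH) ≤ Hs := by rw [Hs_eq]
  have h3 := Subgroup.mem_map_of_mem (Subgroup.inclusion hle) h2
  rw [MonoidHom.map_closure] at h3
  have h4 : Subgroup.inclusion hle ⟨x, hx⟩ = x := rfl
  rw [h4] at h3
  refine Subgroup.closure_mono ?_ h3
  rintro _ ⟨z, ⟨y, hy, hyz⟩, rfl⟩
  exact ⟨y, hy, hyz.symm⟩

include spider in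
/-- the homomorphism from the presented group Fi23 is onto -/
theorem exists_hom_surjective : ∃ φ : Fi23 →* Hs ⧸ L, Function.Surjective φ := by
  obtain ⟨φ, hφ⟩ := exists_hom spider
  refine ⟨φ, ?_⟩
  rw [← MonoidHom.range_eq_top, eq_top_iff]
  have hle : (⊤ : Subgroup Hs) ≤ φ.range.comap (QuotientGroup.mk' L) := by
    rw [← closure_gens_Hs, Subgroup.closure_le]
    rintro x ⟨y, hy, hxy⟩
    show (QuotientGroup.mk' L) x ∈ φ.range
    simp only [SH, Set.mem_insert_iff, Set.mem_singleton_iff] at hy
    have key : ∀ z : Fi23.Gen, (x : Fi24) = g (ι23 z) → (QuotientGroup.mk' L) x ∈ φ.range := by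
      intro z hz
      refine ⟨PresentedGroup.mk _ (FreeGroup.of z), ?_⟩
      rw [hφ]
      congr 1
      apply Subtype.ext
      rw [θ_coe, θ0_of, hz]
    rcases hy with rfl | rfl | rfl | rfl | rfl | rfl | rfl | rfl | rfl | rfl | rfl
    · exact key .a hxy
    · exact key .b hxy
    · exact key .c hxy
    · exact key .d hxy
    · exact key .e hxy
    · exact key .f hxy
    · exact key .g hxy
    · exact key .h hxy
    · exact key .i hxy
    · exact key .j hxy
    · have : x = lH := Subtype.ext hxy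
      rw [this]
      have h1 : (QuotientGroup.mk' L) lH = 1 :=
        (QuotientGroup.eq_one_iff _).mpr (Subgroup.mem_zpowers lH)
      rw [h1]
      exact φ.range.one_mem
  intro q _
  obtain ⟨x, rfl⟩ := QuotientGroup.mk_surjective q
  exact hle (Subgroup.mem_top x)

variable (ha1 : g .a ≠ 1) (hal : g .a ≠ g .l)

include ha1 hal in
theorem nontrivial_quot : Nontrivial (Hs ⧸ L) := by
  refine ⟨⟨(QuotientGroup.mk (⟨g .a, g_mem_Hs _ (by simp [SH])⟩ : Hs) : Hs ⧸ L), 1, ?_⟩⟩
  intro h
  have h1 := (QuotientGroup.eq_one_iff _).mp h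
  rcases mem_L _ h1 with h2 | h2
  · exact ha1 (congrArg Subtype.val h2)
  · exact hal (congrArg Subtype.val h2)

include spider ha1 hal in
/-- the quotient of `Hs` by `l` is simple -/
theorem isSimpleGroup_quot : IsSimpleGroup (Hs ⧸ L) := by
  obtain ⟨φ, hφ⟩ := exists_hom_surjective spider
  have := nontrivial_quot ha1 hal
  have : IsSimpleGroup Fi23 := Fi23Simple.isSimpleGroup
  exact IsSimpleGroup.isSimpleGroup_of_surjective φ hφ

include spider ha1 hal in
/-- the order of the quotient of `Hs` by `l` -/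
theorem card_quot : Nat.card (Hs ⧸ L) = 4089470473293004800 := by
  obtain ⟨φ, hφ⟩ := exists_hom_surjective spider
  have := nontrivial_quot ha1 hal
  have : IsSimpleGroup Fi23 := Fi23Simple.isSimpleGroup
  have hinj : Function.Injective φ := by
    rw [← MonoidHom.ker_eq_bot_iff]
    rcases (MonoidHom.normal_ker φ).eq_bot_or_eq_top with h | h
    · exact h
    · exfalso
      obtain ⟨q, hq⟩ := exists_ne (1 : Hs ⧸ L)
      obtain ⟨x, rfl⟩ := hφ q
      apply hq
      rw [← MonoidHom.mem_ker, h]
      trivial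
  rw [← Nat.card_congr (Equiv.ofBijective φ ⟨hinj, hφ⟩)]
  exact Fi23Order.card_eq

variable (hl1 : g .l ≠ 1)

include hl1 in
theorem card_L : Nat.card L = 2 := by
  rw [L, Nat.card_zpowers]
  refine orderOf_eq_prime ?_ ?_
  · rw [pow_two]; exact lH_sq
  · intro h
    exact hl1 (congrArg Subtype.val h)

include spider ha1 hal hl1 in
/-- the order of `Hs` -/
theorem card_Hs : Nat.card Hs = 8178940946586009600 := by
  rw [Subgroup.card_eq_card_quotient_mul_card_subgroup L, card_quot spider ha1 hal, card_L hl1]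

end

end Cfsg.Agent.Lib.Helper12.Fi24
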