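import Cfsg.Agent.Lib.Helper12.Fi24.Quot
import Cfsg.Agent.Lib.Helper12.Ord.Iwasawa4
import Cfsg.Agent.S1691
import Cfsg.Prelude.Def_Sporadic

/-!
The presented Fischer group Fi24: from the spider relation, the index and the maximality of the subgroup `Hs`
generated by all generators but `k`, and a homomorphism that kills the normal subgroups contained in `Hs` but
separates `1`, `a` and `l`: the order of the group, its normal subgroups, and the simplicity of its commutator
subgroup (helper12).
-/

set_option autoImplicit false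
set_option linter.unusedSimpArgs false

namespace Cfsg.Agent.Lib.Helper12.Fi24

open Cfsg.Spor Cfsg.Agent.Lib.Helper12.TCG.Fi24Pres Cfsg.Agent.Lib.Helper12.Ord

section

variable {P : Type*} [Group P] (ρ : Fi24 →* P)
  (hcore : ∀ N : Subgroup Fi24, N.Normal → N ≤ Hs → ∀ n ∈ N, ρ n = 1)
  (hρa : ρ (g .a) ≠ 1) (hρl : ρ (g .l) ≠ 1) (hρal : ρ (g .a) ≠ ρ (g .l))
  (spider : (g .d * g .c * g .b * g .d * g .e * g .f * g .d * g .h * g .i) ^ 10 = 1)
  (hidx : Hs.index = 306936) (hmax : IsCoatom Hs)

include hρa in
theorem ha1 : g .a ≠ 1 := fun h => hρa (by rw [h, map_one])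

include hρl in
theorem hl1 : g .l ≠ 1 := fun h => hρl (by rw [h, map_one])

include hρal in
theorem hal : g .a ≠ g .l := fun h => hρal (by rw [h])

include hρa hρl hρal spider hidx in
/-- the order of the presented group -/
theorem finite_card : Finite Fi24 ∧ Nat.card Fi24 = 2510411418381323442585600 := by
  have h1 := Hs.index_mul_card
  rw [hidx, card_Hs spider (ha1 ρ hρa) (hal ρ hρal) (hl1 ρ hρl)] at h1
  have h2 : Nat.card Fi24 = 2510411418381323442585600 := by
    rw [← h1]
  refine ⟨?_, h2⟩
  apply Nat.finite_of_card_ne_zero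
  rw [h2]
  decide

include hcore hρa hρl hρal spider in
/-- the subgroup `Hs` contains no normal subgroup but the trivial one -/
theorem core_eq_bot : ∀ N : Subgroup Fi24, N.Normal → N ≤ Hs → N = ⊥ := by
  intro N hN hle
  have hsimple := isSimpleGroup_quot spider (ha1 ρ hρa) (hal ρ hρal)
  have hN' : (N.subgroupOf Hs).Normal := hN.subgroupOf Hs
  have hM : ((N.subgroupOf Hs).map (QuotientGroup.mk' L)).Normal :=
    Subgroup.Normal.map hN' _ (QuotientGroup.mk'_surjective L)
  rcases hM.eq_bot_or_eq_top with h | h
  · rw [eq_bot_iff]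
    intro n hn
    rw [Subgroup.mem_bot]
    have h1 : (QuotientGroup.mk' L) ⟨n, hle hn⟩ ∈ (N.subgroupOf Hs).map (QuotientGroup.mk' L) :=
      Subgroup.mem_map_of_mem _ (Subgroup.mem_subgroupOf.mpr hn)
    rw [h, Subgroup.mem_bot] at h1
    have h2 := (QuotientGroup.eq_one_iff _).mp h1
    rcases mem_L _ h2 with h3 | h3
    · exact congrArg Subtype.val h3
    · exfalso
      have h4 : n = g .l := congrArg Subtype.val h3
      exact hρl (by rw [← h4]; exact hcore N hN hle n hn)
  · exfalso
    have h1 : (QuotientGroup.mk' L) ⟨g .a, g_mem_Hs _ (by simp [SH])⟩ ∈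
        (N.subgroupOf Hs).map (QuotientGroup.mk' L) := by
      rw [h]; trivial
    obtain ⟨n', hn', hq⟩ := h1
    have h2 : n'⁻¹ * ⟨g .a, g_mem_Hs _ (by simp [SH])⟩ ∈ L := by
      rw [← QuotientGroup.eq]
      exact hq
    have hn : (n' : Fi24) ∈ N := Subgroup.mem_subgroupOf.mp hn'
    have hρn : ρ (n' : Fi24) = 1 := hcore N hN hle _ hn
    rcases mem_L _ h2 with h3 | h3
    · have h4 : (n' : Fi24)⁻¹ * g .a = 1 := congrArg Subtype.val h3
      have h5 := congrArg ρ h4
      rw [map_mul, map_inv, hρn, inv_one, one_mul, map_one] at h5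
      exact hρa h5
    · have h4 : (n' : Fi24)⁻¹ * g .a = g .l := congrArg Subtype.val h3
      have h5 := congrArg ρ h4
      rw [map_mul, map_inv, hρn, inv_one, one_mul] at h5
      exact hρal h5

include hcore hρa hρl hρal spider hmax in
/-- the normal subgroups of the presented group -/
theorem normal_subgroups : ∀ N : Subgroup Fi24, N.Normal → N = ⊥ ∨ commutator Fi24 ≤ N := by
  intro N hN
  by_cases hle : N ≤ Hs
  · exact Or.inl (core_eq_bot ρ hcore hρa hρl hρal spider N hN hle)
  · exact Or.inr (commutator_le_of_central_elt Hs hmax (g .l) l_central normalClosure_l N hN hle)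

theorem l_not_mem_commutator : g .l ∉ commutator Fi24 := by
  intro h
  have h1 : commutator Fi24 ≤ Cfsg.Agent.S1691.sgn.ker := Abelianization.commutator_subset_ker _
  have h2 := h1 h
  rw [MonoidHom.mem_ker] at h2
  have h3 : Cfsg.Agent.S1691.sgn (g .l) = Cfsg.Agent.S1691.tt := Cfsg.Agent.S1691.sgn_of .l
  rw [h3] at h2
  exact absurd h2 (by decide)

theorem commutator_sup_l : commutator Fi24 ⊔ Subgroup.zpowers (g .l) = ⊤ := by
  set D := commutator Fi24 with hD
  set K := D ⊔ Subgroup.zpowers (g .l) with hK
  have hDK : D ≤ K := le_sup_left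
  have h1 : D.relIndex K * K.index = D.index := Subgroup.relIndex_mul_index hDK
  rw [Cfsg.Agent.S1691.result] at h1
  have h2 : K.index ∣ 2 := Dvd.intro_left _ h1
  rcases (Nat.dvd_prime Nat.prime_two).mp h2 with h3 | h3
  · exact Subgroup.index_eq_one.mp h3
  · exfalso
    rw [h3] at h1
    have h4 : D.relIndex K = 1 := by omega
    have h5 : K ≤ D := Subgroup.relIndex_eq_one.mp h4
    apply l_not_mem_commutator
    exact h5 (le_sup_right (a := D) (Subgroup.mem_zpowers (g .l)))

include hρa hρl hρal spider hidx in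
theorem card_commutator : Nat.card (commutator Fi24) = 1255205709190661721292800 := by
  have h1 := (commutator Fi24).index_mul_card
  rw [Cfsg.Agent.S1691.result, (finite_card ρ hρa hρl hρal spider hidx).2] at h1
  omega

theorem not_isSquare : ¬ IsSquare 1255205709190661721292800 := by
  rintro ⟨r, hr⟩
  rcases le_or_gt r 1120359633863 with h | h
  · have := Nat.mul_le_mul h h
    omega
  · have h' : 1120359633864 ≤ r := h
    have := Nat.mul_le_mul h' h'
    omega

include hcore hρa hρl hρal spider hidx hmax in
/-- the commutator subgroup of the presented group is simple of the order of Fi24' -/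
theorem isFi24' : Cfsg.IsFi24' Cfsg.Spor.Fi24' := by
  have hfin := (finite_card ρ hρa hρl hρal spider hidx).1
  have hcard := card_commutator ρ hρa hρl hρal spider hidx
  refine ⟨?_, hcard⟩
  have hDn : (commutator Fi24).Normal := inferInstance
  refine isSimpleGroup_of_not_square (commutator Fi24) (g .l) commutator_sup_l ?_ ?_ ?_ ?_
  · rw [g_sq]; exact Subgroup.one_mem _
  · intro M hM hMD
    rcases normal_subgroups ρ hcore hρa hρl hρal spider hmax M hM with h | h
    · exact Or.inl h
    · exact Or.inr (le_antisymm hMD h)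
  · apply Finite.one_lt_card_iff_nontrivial.mp
    rw [hcard]
    decide
  · rw [hcard]
    exact not_isSquare

end

end Cfsg.Agent.Lib.Helper12.Fi24
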